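import Cfsg.Agent.H621.Hall.ScChev
import Cfsg.Agent.H610.Table3D4
import Cfsg.Agent.Nodes.RGDTwD4

/-!
# S2223: the rows `G2`, `F4`, `E7`, `E8`, `3D4` of the condition SC (helper621, task 4231)
-/

set_option autoImplicit false
set_option linter.unusedSectionVars false

namespace Cfsg.Agent.H621.Sc

open CoxeterSystem Subgroup Cfsg Cfsg.Lie Cfsg.Lie.ChevalleyDatum
open Cfsg.Agent.ChevalleyStructure Cfsg.Agent.ChevalleyStructure.Elts Cfsg.Agent.ChevalleyStructure.CoxeterGeom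
  Cfsg.Agent.ChevalleyStructure.CoxeterGeomTypes Cfsg.Agent.ChevalleyStructure.NPerm
open Cfsg.Agent.Tits.Roots Cfsg.Agent.Tits.Core Cfsg.Agent.Nodes.Reps Cfsg.Agent.Nodes.BNOf
  Cfsg.Agent.Nodes.RGDChev Cfsg.Agent.Nodes.Bruhat
open Cfsg.Agent.KFacts.RgdField Cfsg.Agent.KFacts.RgdChevCoord Cfsg.Agent.BpExc.TorCent Cfsg.Agent.BpExc.TorChev
open Cfsg.Agent.H130.WeylCk Cfsg.Agent.H130.PolyL Cfsg.Agent.H130.WeylTab Cfsg.Agent.H408.Pron

universe u

section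

variable {D : ChevalleyDatum} {l : ℕ} {M : CoxeterMatrix (Fin l)} (hp : IsType D l M)
  {W : Type*} [Group W] (cs : CoxeterSystem M W)

/-- `-1 ∈ W` from a table. -/
theorem rep_neg_of {Al : List (List ℤ)} (hA : MatList (cartanOf D l) Al) (word : List (Fin l)) (k : ℕ)
    (h : ∀ i : Fin l, acn Al word k (bas l i) = (bas l i).map (fun x => -1 * x)) (x : Fin l → ℤ) :
    rep cs hp.isCartan (cs.wordProd word ^ k) x = -x := by
  have h1 : rep cs hp.isCartan (cs.wordProd word ^ k) = -1 := by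
    apply LinearMap.pi_ext'
    intro i
    apply LinearMap.ext_ring
    show rep cs hp.isCartan (cs.wordProd word ^ k) (Pi.single i 1) = -Pi.single i 1
    rw [← toFn_bas, map_pow, ← toFn_acn cs hp.isCartan hA word _ _ (length_bas i.1), h i, toFn_smul, neg_smul, one_smul]
  rw [h1]
  rfl

end

theorem neg_G2 : ∀ i : Fin 2, acn alG2 ([0, 1] : List (Fin 2)) 3 (bas 2 i) = (bas 2 i).map (fun x => -1 * x) := by
  decide +kernel

theorem neg_F4 : ∀ i : Fin 4, acn alF4 ([0, 1, 2, 3] : List (Fin 4)) 6 (bas 4 i) =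
    (bas 4 i).map (fun x => -1 * x) := by decide +kernel

theorem neg_E7 : ∀ i : Fin 7, acn alE7 ([0, 1, 2, 3, 4, 5, 6] : List (Fin 7)) 9 (bas 7 i) =
    (bas 7 i).map (fun x => -1 * x) := by decide +kernel

theorem neg_E8 : ∀ i : Fin 8, acn alE8 ([0, 1, 2, 3, 4, 5, 6, 7] : List (Fin 8)) 15 (bas 8 i) =
    (bas 8 i).map (fun x => -1 * x) := by decide +kernel

theorem neg_D4 : ∀ i : Fin 4, acn alD4 ([1, 0, 2, 3] : List (Fin 4)) 3 (bas 4 i) =
    (bas 4 i).map (fun x => -1 * x) := by decide +kernel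

theorem odd_G2 : ∀ r < chevG2.nroots, ∃ j : Fin 2, chevG2.cartan j r % 2 = 1 := by decide +kernel

theorem odd_F4 : ∀ r < chevF4.nroots, ∃ j : Fin 4, chevF4.cartan j r % 2 = 1 := by decide +kernel

theorem odd_E7 : ∀ r < chevE7.nroots, ∃ j : Fin 7, chevE7.cartan j r % 2 = 1 := by decide +kernel

theorem odd_E8 : ∀ r < chevE8.nroots, ∃ j : Fin 8, chevE8.cartan j r % 2 = 1 := by decide +kernel

theorem odd_D4 : ∀ r < chevD4.nroots, chevD4.cartan 1 r % 2 = 1 ∨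
    (chevD4.cartan 0 r + chevD4.cartan 2 r + chevD4.cartan 3 r) % 2 = 1 := by decide +kernel

section

variable {F : Type u} [Field F] [Fintype F]

/-- the characteristic -/
theorem exists_p (hodd : Odd (Fintype.card F)) : ∃ p : ℕ, p.Prime ∧ CharP F p ∧ p ≠ 2 := by
  obtain ⟨p, hp⟩ := CharP.exists F
  have hpr : p.Prime := CharP.char_is_prime F p
  have : Fact p.Prime := ⟨hpr⟩
  refine ⟨p, hpr, hp, ?_⟩
  rintro rfl
  obtain ⟨n, -, hn⟩ := FiniteField.card F 2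
  rw [hn, ← Nat.not_even_iff_odd] at hodd
  exact hodd (Nat.even_pow.2 ⟨even_two, n.pos.ne'⟩)

theorem sc_G2 (hodd : Odd (Fintype.card F)) : SC ↥(chevG2.group F) := by
  obtain ⟨p, hpr, _, hp2⟩ := exists_p hodd
  have : Fact p.Prime := ⟨hpr⟩
  have hp : IsType chevG2 2 CoxeterMatrix.G₂ := by simp [IsType, typeList]
  exact sc_chev hp CoxeterMatrix.G₂.toCoxeterSystem p hp2 odd_G2 (rep_neg_of hp _ lists_G2 _ 3 neg_G2)

theorem sc_F4 (hodd : Odd (Fintype.card F)) : SC ↥(chevF4.group F) := by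
  obtain ⟨p, hpr, _, hp2⟩ := exists_p hodd
  have : Fact p.Prime := ⟨hpr⟩
  have hp : IsType chevF4 4 CoxeterMatrix.F₄ := by simp [IsType, typeList]
  exact sc_chev hp CoxeterMatrix.F₄.toCoxeterSystem p hp2 odd_F4 (rep_neg_of hp _ lists_F4 _ 6 neg_F4)

theorem sc_E7 (hodd : Odd (Fintype.card F)) : SC ↥(chevE7.group F) := by
  obtain ⟨p, hpr, _, hp2⟩ := exists_p hodd
  have : Fact p.Prime := ⟨hpr⟩
  have hp : IsType chevE7 7 CoxeterMatrix.E₇ := by simp [IsType, typeList]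
  exact sc_chev hp CoxeterMatrix.E₇.toCoxeterSystem p hp2 odd_E7 (rep_neg_of hp _ lists_E7 _ 9 neg_E7)

theorem sc_E8 (hodd : Odd (Fintype.card F)) : SC ↥(chevE8.group F) := by
  obtain ⟨p, hpr, _, hp2⟩ := exists_p hodd
  have : Fact p.Prime := ⟨hpr⟩
  have hp : IsType chevE8 8 CoxeterMatrix.E₈ := by simp [IsType, typeList]
  exact sc_chev hp CoxeterMatrix.E₈.toCoxeterSystem p hp2 odd_E8 (rep_neg_of hp _ lists_E8 _ 15 neg_E8)

end

/-- **S2223 HALLPRO: the rows `G2`, `F4`, `E7`, `E8`.** -/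
theorem sc_rows {F : Type} [Field F] [Fintype F] (hodd : Odd (Fintype.card F)) :
    (3 ≤ Fintype.card F → SC ↥(Cfsg.Lie.chevG2.group F)) ∧ SC ↥(Cfsg.Lie.chevF4.group F) ∧
      SC ↥(Cfsg.Lie.chevE7.group F) ∧ SC ↥(Cfsg.Lie.chevE8.group F) :=
  ⟨fun _ => sc_G2 hodd, sc_F4 hodd, sc_E7 hodd, sc_E8 hodd⟩

section TwD4

open Cfsg.Agent.ChevalleyStructure.D4Comm Cfsg.Agent.ChevalleyStructure.D4U Cfsg.Agent.ChevalleyStructure.D4Twisted
open Cfsg.Agent.ChevalleyStructure.D4NConj (nR hR)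
open Cfsg.Agent.Nodes.RGDTwD4 (nn_eq)

/-- **S2223 HALLPRO: the row `3D4`.** -/
theorem sc_3d4 {F : Type} [Field F] [Fintype F] {q : ℕ} (hq : Fintype.card F = q ^ 3) (hodd : Odd q) :
    SC ↥(Cfsg.Lie.twistedD4 F q) := by
  obtain ⟨p, hpr, _, hp2⟩ := exists_p (F := F) (by rw [hq]; exact hodd.pow)
  have : Fact p.Prime := ⟨hpr⟩
  have hqp : IsPrimePow q := (isPrimePow_pow_iff (by norm_num : (3 : ℕ) ≠ 0)).1 (by
    rw [← hq]; exact FiniteField.isPrimePow_card F)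
  obtain ⟨φ, hφ⟩ := D4Fixed.exists_frob hqp hq
  have hle : Cfsg.Lie.twistedD4 F q ≤ chevD4.group F := Cfsg.Agent.H610.Table3D4.twisted_le q
  have hp : IsType chevD4 4 coxeterD4 := Cfsg.Agent.Nodes.RGDTwD4.hp
  have hm1 : (-1 : F) ≠ 1 := neg_one_ne_one p hp2
  have hn1 : (-1 : F) ≠ 0 := neg_ne_zero.2 one_ne_zero
  have hφ1 : φ (-1) = -1 := by rw [map_neg, map_one]
  let cs := coxeterD4.toCoxeterSystem
  let e : ↥(Cfsg.Lie.twistedD4 F q) →* ↥(chevD4.group F) := Subgroup.inclusion hle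
  let s1 : ↥(Cfsg.Lie.twistedD4 F q) := ⟨hR 14 (-1), h14_mem hφ hφ1⟩
  let s2 : ↥(Cfsg.Lie.twistedD4 F q) := ⟨hb φ (-1), hb_mem hφ _⟩
  have hRG : ∀ i : Fin 4, ((hc hp i (-1) : ↥(chevD4.group F)) : GL chevD4.Idx F) =
      hR (Cfsg.Agent.ChevalleyStructure.D4NCheck.sp i) (-1) := by
    intro i
    apply Units.ext
    rw [Cfsg.Agent.ChevalleyStructure.D4NConj.coe_hR (by revert i; decide +kernel),
      ← Cfsg.Agent.ChevalleyStructure.D4NConj.simple_eq i.2]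
    exact coe_hG hp.inList _ _
  have e1 : e s1 = hc hp 1 (-1) := by
    apply Subtype.ext
    rw [hRG 1]
    rfl
  have e2 : e s2 = hc hp 0 (-1) * hc hp 2 (-1) * hc hp 3 (-1) := by
    apply Subtype.ext
    rw [Subgroup.coe_mul, Subgroup.coe_mul, hRG 0, hRG 2, hRG 3]
    show hR 18 (-1) * hR 13 (φ (-1)) * hR 12 (φ (φ (-1))) = _
    rw [hφ1, hφ1]
    rfl
  have hT := fun i => hc_mem (K := F) hp i hn1
  have hTc := TT_comm hp (K := F)
  have he : Function.Injective e := Subgroup.inclusion_injective hle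
  refine sc_emb hp cs p e he (S := {s1, s2}) ?_ ?_ ?_
    (rep_neg_of hp cs lists_D4 _ 3 neg_D4) (g := (nA hφ * nB hφ) ^ 3) ?_
  · rintro s (rfl | rfl)
    · rw [e1]; exact hT 1
    · rw [e2]; exact mul_mem (mul_mem (hT 0) (hT 2)) (hT 3)
  · rintro s (rfl | rfl)
    · apply he
      rw [map_mul, e1, map_one, hc_sq]
    · apply he
      rw [map_mul, e2, map_one]
      exact tt_sq (hTc _ (mul_mem (hT 0) (hT 2)) _ (hT 3)) (tt_sq (hTc _ (hT 0) _ (hT 2)) (hc_sq hp 0) (hc_sq hp 2))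
        (hc_sq hp 3)
  · intro r hr
    have C := coords (K := F) hp cs p
    rcases odd_D4 r hr with h | h
    · refine ⟨s1, Or.inl rfl, ?_⟩
      rw [e1, ch_hc hp 1 hn1 hr]
      show (-1 : F) ^ chevD4.cartan 1 r ≠ 1
      rw [(Int.odd_iff.2 h).neg_one_zpow]
      exact hm1
    · refine ⟨s2, Or.inr rfl, ?_⟩
      have ha := (isRoot_iff hp cs _).2 ⟨r, hr, rfl⟩
      rw [e2, (C.coord _ ha).chi_mul (mul_mem (hT 0) (hT 2)) (hT 3), (C.coord _ ha).chi_mul (hT 0) (hT 2),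
        ch_hc hp 0 hn1 hr, ch_hc hp 2 hn1 hr, ch_hc hp 3 hn1 hr, ← zpow_add₀ hn1, ← zpow_add₀ hn1]
      show (-1 : F) ^ (chevD4.cartan 0 r + chevD4.cartan 2 r + chevD4.cartan 3 r) ≠ 1
      rw [(Int.odd_iff.2 h).neg_one_zpow]
      exact hm1
  · rw [map_pow]
    have h1 : Rp cs (rgd (K := F) hp cs p).nsys (cs.wordProd [1, 0, 2, 3]) (e (nA hφ * nB hφ)) := by
      have h2 : e (nA hφ * nB hφ) = (⟨nn hp F 1, nn_mem_group hp 1⟩ : ↥(chevD4.group F)) *
          ((⟨nn hp F 0, nn_mem_group hp 0⟩ : ↥(chevD4.group F)) * ((⟨nn hp F 2, nn_mem_group hp 2⟩ : ↥(chevD4.group F)) *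
            (⟨nn hp F 3, nn_mem_group hp 3⟩ : ↥(chevD4.group F)))) := by
        apply Subtype.ext
        show na F * nb F = nn hp F 1 * (nn hp F 0 * (nn hp F 2 * nn hp F 3))
        rw [← mul_assoc (nn hp F 0), nn_eq, nn_eq, nn_eq, nn_eq]
        rfl
      rw [h2]
      have h3 : cs.wordProd [1, 0, 2, 3] = cs.simple 1 * (cs.simple 0 * (cs.simple 2 * cs.simple 3)) := by
        simp [wordProd]
      rw [h3]
      have h4 := fun i => rp_simple cs (hN := (rgd (K := F) hp cs p).nsys) i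
      exact (h4 1).mul ((h4 0).mul ((h4 2).mul (h4 3)))
    rw [pow_succ, pow_succ, pow_one, pow_succ, pow_succ, pow_one]
    exact (h1.mul h1).mul h1

end TwD4

end Cfsg.Agent.H621.Sc
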