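import Cfsg.Agent.H125.Hall.Defs

/-!
# S2223, R1: an abelian group normalised by an element without eigenvalue `-1` (helper621)
-/

set_option autoImplicit false

namespace Cfsg.Agent.H621.Hall

open Cfsg.Agent.H125.Hall Module Module.End

variable {k : Type*} [Field k] [IsAlgClosed k] {V : Type*} [AddCommGroup V] [Module k V] [FiniteDimensional k V]
  {A : Type*} [Group A] [Finite A]

omit [FiniteDimensional k V] [IsAlgClosed k] in
theorem weight_case (ρ : A →* (V →ₗ[k] V)) {a : A} (ha : Reg ρ a) (B : Subgroup A)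
    (hn : ∀ x ∈ B, a * x * a⁻¹ ∈ B) {v : V} {χ : A → k} (hv : ∀ b ∈ B, ρ b v = χ b • v) (x : A) (hx : x ∈ B) :
    ρ (a * a * x) v = ρ (x * (a * a)) v := by
  -- the inverse of `a` normalises `B` too
  have hpow : ∀ n : ℕ, ∀ y ∈ B, a ^ n * y * (a ^ n)⁻¹ ∈ B := by
    intro n
    induction n with
    | zero => intro y hy; simpa using hy
    | succ n ih =>
      intro y hy
      have h1 := ih _ (hn y hy)
      have h2 : a ^ (n + 1) * y * (a ^ (n + 1))⁻¹ = a ^ n * (a * y * a⁻¹) * (a ^ n)⁻¹ := by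
        rw [pow_succ]
        group
      rwa [h2]
  have hinv : ∀ y ∈ B, a⁻¹ * y * a ∈ B := by
    intro y hy
    have h1 := hpow (orderOf a - 1) y hy
    have h0 : 0 < orderOf a := orderOf_pos a
    have h2 : a ^ (orderOf a - 1) = a⁻¹ := by
      apply eq_inv_of_mul_eq_one_left
      rw [← pow_succ, Nat.sub_add_cancel h0, pow_orderOf_eq_one]
    rw [h2, inv_inv] at h1
    exact h1
  by_cases hv0 : v = 0
  · simp [hv0]
  -- the weights of `a ^ i v`
  have hstep : ∀ {w : V} {ψ : A → k}, (∀ b ∈ B, ρ b w = ψ b • w) → ∀ b ∈ B, ρ b (ρ a w) = ψ (a⁻¹ * b * a) • ρ a w := by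
    intro w ψ hw b hb
    have h1 : ρ b (ρ a w) = ρ a (ρ (a⁻¹ * b * a) w) := by
      rw [← Module.End.mul_apply, ← Module.End.mul_apply, ← map_mul, ← map_mul]
      congr 2
      group
    rw [h1, hw _ (hinv b hb), map_smul]
  have w1 := hstep hv
  have w2 := hstep w1
  have w3 := hstep w2
  have w4 := hstep w3
  have hinj : ∀ w : V, ρ a w = 0 → w = 0 := by
    intro w hw
    have : w = ρ a⁻¹ (ρ a w) := by
      rw [← Module.End.mul_apply, ← map_mul, inv_mul_cancel, map_one, Module.End.one_apply]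
    rw [this, hw, map_zero]
  have hreg := ha v
  have hreg1 := ha (ρ a v)
  have h4 : ρ a (ρ a (ρ a (ρ a v))) = v := by
    have h5 : ρ a (ρ a (ρ a v)) = ρ a (ρ a v) + v - ρ a v := by rw [← hreg]; abel
    have h6 : ρ a (ρ a (ρ a (ρ a v))) = ρ a (ρ a (ρ a v)) + ρ a v - ρ a (ρ a v) := by rw [← hreg1]; abel
    rw [h6, h5]
    abel
  set χ1 : A → k := fun b => χ (a⁻¹ * b * a) with hχ1
  set χ2 : A → k := fun b => χ1 (a⁻¹ * b * a) with hχ2
  set χ3 : A → k := fun b => χ2 (a⁻¹ * b * a) with hχ3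
  have w1' : ∀ b ∈ B, ρ b (ρ a v) = χ1 b • ρ a v := w1
  have w2' : ∀ b ∈ B, ρ b (ρ a (ρ a v)) = χ2 b • ρ a (ρ a v) := w2
  have w3' : ∀ b ∈ B, ρ b (ρ a (ρ a (ρ a v))) = χ3 b • ρ a (ρ a (ρ a v)) := w3
  -- it suffices that `χ2 = χ`
  have hgoal : χ2 x = χ x → ρ (a * a * x) v = ρ (x * (a * a)) v := by
    intro h
    have e1 : ρ (a * a * x) v = χ x • ρ a (ρ a v) := by
      rw [map_mul, map_mul, Module.End.mul_apply, Module.End.mul_apply, hv x hx, map_smul, map_smul]
    have e2 : ρ (x * (a * a)) v = χ2 x • ρ a (ρ a v) := by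
      rw [map_mul, map_mul, Module.End.mul_apply, Module.End.mul_apply]
      exact w2 x hx
    rw [e1, e2, h]
  by_contra hcon
  have hb : χ2 x ≠ χ x := fun h => hcon (hgoal h)
  obtain ⟨c, hcB, hc⟩ : ∃ c ∈ B, χ1 c ≠ χ c := by
    by_contra h
    push Not at h
    apply hb
    change χ1 (a⁻¹ * x * a) = χ x
    rw [h _ (hinv x hx)]
    exact h x hx
  have hχ4 : ∀ b ∈ B, χ3 (a⁻¹ * b * a) = χ b := by
    intro b hbB
    have h1 := w4 b hbB
    rw [h4, hv b hbB] at h1
    have h2 : (χ b - χ3 (a⁻¹ * b * a)) • v = 0 := by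
      rw [sub_smul, h1]
      exact sub_self _
    rcases smul_eq_zero.1 h2 with h | h
    · exact (sub_eq_zero.1 h).symm
    · exact absurd h hv0
  obtain ⟨d, hdB, hd⟩ : ∃ d ∈ B, χ3 d ≠ χ d := by
    by_contra h
    push Not at h
    apply hc
    change χ (a⁻¹ * c * a) = χ c
    rw [← hχ4 c hcB, h _ (hinv c hcB)]
  have k1 : ρ a (ρ a v) + v - ρ a v - ρ a (ρ a (ρ a v)) = 0 := by
    rw [← hreg]
    abel
  -- apply `ρ x - χ2 x`
  have s1 : (χ x - χ2 x) • v - (χ1 x - χ2 x) • ρ a v - (χ3 x - χ2 x) • ρ a (ρ a (ρ a v)) = 0 := by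
    have h := congrArg (ρ x) k1
    rw [map_zero, map_sub, map_sub, map_add, w2' x hx, hv x hx, w1' x hx, w3' x hx] at h
    have h' := congrArg (fun w => χ2 x • w) k1
    simp only [smul_zero, smul_sub, smul_add] at h'
    have h'' := congrArg₂ (fun u w => u - w) h h'
    simp only [sub_zero] at h''
    rw [← h'']
    module
  have s2 : ((χ x - χ2 x) * (χ c - χ1 c)) • v - ((χ3 x - χ2 x) * (χ3 c - χ1 c)) • ρ a (ρ a (ρ a v)) = 0 := by
    have h := congrArg (ρ c) s1
    rw [map_zero, map_sub, map_sub, map_smul, map_smul, map_smul, hv c hcB, w1' c hcB, w3' c hcB] at h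
    have h' := congrArg (fun w => χ1 c • w) s1
    simp only [smul_zero, smul_sub] at h'
    have h'' := congrArg₂ (fun u w => u - w) h h'
    simp only [sub_zero] at h''
    rw [← h'']
    simp only [smul_smul]
    change _ = (((χ x - χ2 x) * χ c) • v - ((χ1 x - χ2 x) * χ1 c) • ρ a v - ((χ3 x - χ2 x) * χ3 c) • ρ a (ρ a (ρ a v))) -
      ((χ1 c * (χ x - χ2 x)) • v - (χ1 c * (χ1 x - χ2 x)) • ρ a v - (χ1 c * (χ3 x - χ2 x)) • ρ a (ρ a (ρ a v)))
    module
  have s3 : ((χ x - χ2 x) * (χ c - χ1 c) * (χ d - χ3 d)) • v = 0 := by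
    have h := congrArg (ρ d) s2
    rw [map_zero, map_sub, map_smul, map_smul, hv d hdB, w3' d hdB] at h
    have h' := congrArg (fun w => χ3 d • w) s2
    simp only [smul_zero, smul_sub] at h'
    have h'' := congrArg₂ (fun u w => u - w) h h'
    simp only [sub_zero] at h''
    rw [← h'']
    simp only [smul_smul]
    change _ = (((χ x - χ2 x) * (χ c - χ1 c) * χ d) • v - ((χ3 x - χ2 x) * (χ3 c - χ1 c) * χ3 d) • ρ a (ρ a (ρ a v))) -
      ((χ3 d * ((χ x - χ2 x) * (χ c - χ1 c))) • v - (χ3 d * ((χ3 x - χ2 x) * (χ3 c - χ1 c))) • ρ a (ρ a (ρ a v)))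
    module
  rcases smul_eq_zero.1 s3 with h | h
  · rcases mul_eq_zero.1 h with h | h
    · rcases mul_eq_zero.1 h with h | h
      · exact hb (sub_eq_zero.1 h).symm
      · exact hc (sub_eq_zero.1 h).symm
    · exact hd (sub_eq_zero.1 h).symm
  · exact hv0 h

set_option linter.unusedVariables false in
/-- R1 -/
theorem reg_abelian (ρ : A →* (V →ₗ[k] V)) (h2 : (2 : k) ≠ 0) {a : A} (ha : Reg ρ a) (B : Subgroup A)
    (hB : ∀ x ∈ B, ∀ y ∈ B, x * y = y * x) (hc : (Nat.card B : k) ≠ 0) (hn : ∀ x ∈ B, a * x * a⁻¹ ∈ B) :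
    ∀ x ∈ B, ρ (a * a * x) = ρ (x * (a * a)) := by
  intro x hx
  let f : B → Module.End k V := fun b => ρ b
  have hss : ∀ b : B, (f b).IsSemisimple := by
    intro b
    have hpow : (f b) ^ Nat.card B = 1 := by
      have h1 : (b : A) ^ Nat.card B = 1 := by
        rw [← Subgroup.coe_pow, pow_card_eq_one', Subgroup.coe_one]
      change (ρ b) ^ Nat.card B = 1
      rw [← map_pow, h1, map_one]
    refine isSemisimple_of_squarefree_aeval_eq_zero (p := Polynomial.X ^ Nat.card B - Polynomial.C 1) ?_ ?_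
    · exact (Polynomial.separable_X_pow_sub_C 1 hc one_ne_zero).squarefree
    · rw [map_sub, map_pow, Polynomial.aeval_X, Polynomial.aeval_C, map_one, hpow, sub_self]
  have hcomm : Pairwise fun i j : B => Commute (f i) (f j) := by
    intro i j _
    change ρ i * ρ j = ρ j * ρ i
    rw [← map_mul, ← map_mul, hB _ i.2 _ j.2]
  have htop := iSup_iInf_maxGenEigenspace_eq_top_of_iSup_maxGenEigenspace_eq_top_of_commute f hcomm
    (fun i => iSup_maxGenEigenspace_eq_top (f i))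
  have hsup : ∀ v : V, v ∈ ⨆ χ : B → k, ⨅ i, (f i).maxGenEigenspace (χ i) := by
    intro v
    rw [htop]
    trivial
  apply LinearMap.ext
  intro v
  refine Submodule.iSup_induction _ (motive := fun v => ρ (a * a * x) v = ρ (x * (a * a)) v) (hsup v) ?_ ?_ ?_
  · intro χ w hw
    have hw' : ∀ b ∈ B, ρ b w = (fun b : A => open Classical in if h : b ∈ B then χ ⟨b, h⟩ else 0) b • w := by
      intro b hb
      simp only [dif_pos hb]
      have h1 := (Submodule.mem_iInf _).1 hw ⟨b, hb⟩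
      rw [(hss ⟨b, hb⟩).isFinitelySemisimple.maxGenEigenspace_eq_eigenspace] at h1
      exact mem_eigenspace_iff.1 h1
    exact weight_case ρ ha B hn hw' x hx
  · simp
  · intro u w hu hw
    rw [map_add, map_add, hu, hw]

end Cfsg.Agent.H621.Hall
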