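import Cfsg.Agent.BpExc.TorChev
import Cfsg.Agent.H129.TorusChar
import Cfsg.Agent.H408.Pron.Defs
import Cfsg.Agent.H631.TorusCent
import Cfsg.Agent.H130.WeylTab

/-!
# S2223: Sylow 2-subgroups contain their centralisers, groups of Lie type with `-1 ∈ W`, `q` odd (helper621)

`E = ⟨T[2], n₀⟩`, `n₀` over `w₀ = -1`. An element `c` of odd order which commutes with `E` is trivial: its Bruhat form is
`c = k ∈ N` (no root is trivial on the involutions `h_j(-1)`), `k` lies over an element `w` of odd order which preserves the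
characters of `T[2]`; by the fixator lemma (BpExc.Fix.exists_root_sum_eq_zero) `w = 1`; then `c ∈ T` commutes with `n₀`, so
`c² = 1`.
-/

set_option autoImplicit false
set_option linter.unusedSectionVars false

namespace Cfsg.Agent.H621.Sc

open CoxeterSystem Subgroup Cfsg Cfsg.Lie Cfsg.Lie.ChevalleyDatum
open Cfsg.Agent.ChevalleyStructure Cfsg.Agent.ChevalleyStructure.Elts Cfsg.Agent.ChevalleyStructure.CoxeterGeom
  Cfsg.Agent.ChevalleyStructure.CoxeterGeomTypes Cfsg.Agent.ChevalleyStructure.NPerm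
open Cfsg.Agent.Tits.Roots Cfsg.Agent.Tits.Core Cfsg.Agent.Nodes.Reps Cfsg.Agent.Nodes.BNOf
  Cfsg.Agent.Nodes.RGDChev Cfsg.Agent.Nodes.Bruhat
open Cfsg.Agent.KFacts.RgdField Cfsg.Agent.KFacts.RgdChevCoord Cfsg.Agent.BpExc.TorCent Cfsg.Agent.BpExc.TorChev

universe u

/-! ### Sylow subgroups -/

theorem sc_of {G : Type*} [Group G] [Finite G] {P : Subgroup G} (hP : IsPGroup 2 P)
    (h : ∀ g : G, Odd (orderOf g) → (∀ x ∈ P, x * g = g * x) → g = 1) : Cfsg.Agent.H408.Pron.SC G := by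
  intro S c hc
  have : Fact (Nat.Prime 2) := ⟨Nat.prime_two⟩
  obtain ⟨S', hS'⟩ := hP.exists_le_sylow
  obtain ⟨a, ha⟩ := MulAction.exists_smul_eq G S' S
  have hPS : ∀ x ∈ P, a * x * a⁻¹ ∈ (S : Subgroup G) := by
    intro x hx
    rw [← ha]
    exact ⟨x, hS' hx, rfl⟩
  obtain ⟨k, m, hm, hk⟩ := Nat.exists_eq_two_pow_mul_odd (orderOf_pos c).ne'
  have h1 : a⁻¹ * c ^ 2 ^ k * a = 1 := by
    apply h
    · have h2 : orderOf (a⁻¹ * c ^ 2 ^ k * a) = orderOf (c ^ 2 ^ k) := by
        have := orderOf_injective (MulAut.conj a⁻¹).toMonoidHom (MulAut.conj a⁻¹).injective (c ^ 2 ^ k)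
        rw [← this]
        congr 1
        simp
      rw [h2, orderOf_pow_of_dvd (by positivity) (by rw [hk]; exact dvd_mul_right _ _), hk,
        Nat.mul_div_cancel_left _ (by positivity)]
      exact hm
    · intro x hx
      have h3 : (a * x * a⁻¹) * c = c * (a * x * a⁻¹) := mem_centralizer_iff.1 hc _ (hPS x hx)
      have h4 : Commute (a * x * a⁻¹) (c ^ 2 ^ k) := Commute.pow_right h3 _
      have h5 : (a * x * a⁻¹) * c ^ 2 ^ k = c ^ 2 ^ k * (a * x * a⁻¹) := h4
      calc x * (a⁻¹ * c ^ 2 ^ k * a) = a⁻¹ * ((a * x * a⁻¹) * c ^ 2 ^ k) * a := by group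
        _ = a⁻¹ * (c ^ 2 ^ k * (a * x * a⁻¹)) * a := by rw [h5]
        _ = _ := by group
  have h2 : c ^ 2 ^ k = 1 := by
    have : c ^ 2 ^ k = a * (a⁻¹ * c ^ 2 ^ k * a) * a⁻¹ := by group
    rw [this, h1]
    group
  have h3 : IsPGroup 2 (zpowers c) := by
    rintro ⟨_, i, rfl⟩
    refine ⟨k, Subtype.ext ?_⟩
    show (c ^ i) ^ 2 ^ k = 1
    rw [← zpow_natCast, ← zpow_mul, mul_comm, zpow_mul, zpow_natCast, h2, one_zpow]
  have h5 := h3.inf_normalizer_sylow S
  have h4 : c ∈ zpowers c ⊓ (S : Subgroup G) := by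
    rw [← h5]
    exact ⟨mem_zpowers c, centralizer_le_normalizer ((S : Subgroup G) : Set G) hc⟩
  exact h4.2

section Gen

variable {I W Y : Type*} [Fintype I] [DecidableEq I] [Group W] [Group Y] {M : CoxeterMatrix I}
  {cs : CoxeterSystem M W} {A : I → I → ℤ} {h : IsCartan M A} {p : ℕ} {T : Subgroup Y} {n : I → Y}
  {X : (I → ℤ) → Subgroup Y} {F : Type*} [Field F] {xx : (I → ℤ) → F → Y} {χ : (I → ℤ) → Y → F}

theorem chi_one (C : Coords cs h T n X xx χ) {a : I → ℤ} (ha : IsRoot cs h a) : χ a 1 = 1 := by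
  have h4 := (C.coord a ha).chi_mul (one_mem _) (one_mem _)
  rw [mul_one] at h4
  exact (mul_eq_left₀ ((C.coord a ha).chi_ne_zero (one_mem _))).1 h4.symm

/-- an element of odd order which commutes with enough involutions of the torus lies in the torus -/
theorem mem_T [Finite W] [Finite Y] (R : RGD cs h p T n X) (C : Coords cs h T n X xx χ) (hA : ChAdd cs h T χ)
    {S : Set Y} (hS : S ⊆ T) (hsq : ∀ s ∈ S, s * s = 1) (hsep : ∀ a, IsRoot cs h a → ∃ s ∈ S, χ a s ≠ 1) {g : Y}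
    (hg : g ∈ GG cs h T X) (hc : g ∈ centralizer S) (ho : Odd (orderOf g)) : g ∈ T := by
  obtain ⟨u, hu, w, k, hk, hkc, v, hv, rfl⟩ := Cfsg.Agent.Nodes.NormalForm.mem_centralizer R hS hg hc
  have hbot : RGD.Sup (fun x => X x ⊓ centralizer S) (RGD.Pos cs h) = ⊥ := by
    rw [eq_bot_iff]
    refine RGD.Sup_le fun a ha x hx => ?_
    rw [Subgroup.mem_bot]
    by_contra hx1
    obtain ⟨s, hs, h1⟩ := hsep a ha.1
    apply h1
    refine (mem_Sx_of_centralizer C (hS hs) ha.1 hx.1 hx1 ?_).2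
    rw [Subgroup.mem_centralizer_singleton_iff]
    exact (mem_centralizer_iff.1 hx.2 s hs).symm
  rw [hbot, Subgroup.mem_bot] at hu hv
  subst hu hv
  rw [one_mul, mul_one] at ho ⊢
  -- `w` has odd order
  have hpow : ∀ m : ℕ, Rp cs R.nsys (w ^ m) (k ^ m) := by
    intro m
    induction m with
    | zero => rw [pow_zero, pow_zero]; exact rp_one
    | succ m ih => rw [pow_succ, pow_succ]; exact ih.mul hk
  have hw1 : w ^ orderOf k = 1 := by
    have h1 := hpow (orderOf k)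
    rw [pow_orderOf_eq_one] at h1
    exact Cfsg.Agent.H631.eq_one_of_rp_one R (one_mem T) h1
  by_cases hw : w = 1
  · subst hw
    exact hk.mem_of_one
  exfalso
  obtain ⟨a, ha, hsum⟩ := Cfsg.Agent.BpExc.Fix.exists_root_sum_eq_zero (cs := cs) (h := h) hw (orderOf_pos k) hw1
  obtain ⟨s, hs, h1⟩ := hsep a ha
  apply h1
  obtain ⟨φ, h0, hadd, hφ⟩ := hA s (hS hs)
  have hks : k ∈ centralizer {s} := by
    rw [Subgroup.mem_centralizer_singleton_iff]
    exact (mem_centralizer_iff.1 hkc s hs).symm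
  have hinv : ∀ i : ℕ, φ (rep cs h (w ^ i) a) = φ a := by
    intro i
    rw [← hφ _ (ha.act _), ← hφ a ha]
    refine chi_of_centralizer R C (hS hs) (hpow i) (pow_mem hks i) ha
  have h2 : ∀ m : ℕ, φ (∑ i ∈ Finset.range m, rep cs h (w ^ i) a) = φ a ^ m := by
    intro m
    induction m with
    | zero => rw [Finset.sum_range_zero, h0, pow_zero]
    | succ m ih => rw [Finset.sum_range_succ, hadd, ih, hinv, pow_succ]
  have h3 : φ a ^ orderOf k = 1 := by rw [← h2, hsum, h0]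
  have h4 : φ a * φ a = 1 := by
    rw [← hφ a ha, ← (C.coord a ha).chi_mul (hS hs) (hS hs), hsq s hs, chi_one C ha]
  rw [hφ a ha]
  obtain ⟨m, hm⟩ := ho
  rw [hm, pow_succ, pow_mul, pow_two, h4, one_pow, one_mul] at h3
  exact h3

/-- elements of the torus which commute with an element over `-1` -/
theorem chi_sq (R : RGD cs h p T n X) (C : Coords cs h T n X xx χ) (hA : ChAdd cs h T χ) {w : W}
    (hw : ∀ x, rep cs h w x = -x) {k t : Y} (hk : Rp cs R.nsys w k) (ht : t ∈ T) (hc : k * t = t * k) {a : I → ℤ}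
    (ha : IsRoot cs h a) : χ a (t * t) = 1 := by
  obtain ⟨φ, h0, hadd, hφ⟩ := hA t ht
  have h1 := chi_of_centralizer R C ht hk (by rw [Subgroup.mem_centralizer_singleton_iff]; exact hc) ha
  rw [hw, hφ _ ha.neg, hφ a ha] at h1
  have h2 := hadd a (-a)
  rw [add_neg_cancel, h0, h1] at h2
  rw [(C.coord a ha).chi_mul ht ht, hφ a ha]
  exact h2.symm

end Gen

section Chev

variable {D : ChevalleyDatum} {l : ℕ} {M : CoxeterMatrix (Fin l)} (hp : IsType D l M) {K : Type u} [Field K] [Finite K]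
  {W : Type*} [Group W] (cs : CoxeterSystem M W) (p : ℕ) [Fact p.Prime] [CharP K p]

/-- **An element of odd order commuting with enough involutions of the torus and with an element over `-1` is trivial.** -/
theorem eq_one {S : Set ↥(D.group K)} (hS : S ⊆ TT D K) (hsq : ∀ s ∈ S, s * s = 1)
    (hsep : ∀ r < D.nroots, ∃ s ∈ S, ch hp (vec D l r) s ≠ 1) {w : W} (hw : ∀ x, rep cs hp.isCartan w x = -x)
    {k : ↥(D.group K)} (hk : Rp cs (rgd (K := K) hp cs p).nsys w k) {g : ↥(D.group K)} (ho : Odd (orderOf g))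
    (hc : ∀ s ∈ S, s * g = g * s) (hkg : k * g = g * k) : g = 1 := by
  have := finite_W hp cs
  have R := rgd (K := K) hp cs p
  have C := coords (K := K) hp cs p
  have hA := chAdd (K := K) hp cs p
  have hgT : g ∈ TT D K := by
    refine mem_T R C hA hS hsq (fun a ha => ?_) (by rw [GG_top hp cs]; trivial) (mem_centralizer_iff.2 hc) ho
    obtain ⟨r, hr, rfl⟩ := (isRoot_iff hp cs a).1 ha
    exact hsep r hr
  have h2 : g * g = 1 := by
    refine Cfsg.Agent.H129.TorusChar.cX_inj hp (mul_mem hgT hgT) (one_mem _) fun i => ?_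
    rw [Cfsg.Agent.H129.TorusChar.cX_one, Cfsg.Agent.H129.TorusChar.cX_sr]
    exact chi_sq R C hA hw hk hgT hkg (isRoot_sr cs hp.isCartan i)
  obtain ⟨m, hm⟩ := ho
  have h3 := pow_orderOf_eq_one g
  rw [hm, pow_succ, pow_mul, pow_two, h2, one_pow, one_mul] at h3
  exact h3

/-- products of involutions of an abelian group -/
theorem tt_sq {G : Type*} [Group G] {a b : G} (h : a * b = b * a) (ha : a * a = 1) (hb : b * b = 1) :
    a * b * (a * b) = 1 := by
  calc a * b * (a * b) = a * (b * a) * b := by group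
    _ = a * (a * b) * b := by rw [h]
    _ = (a * a) * (b * b) := by group
    _ = 1 := by rw [ha, hb, one_mul]

/-- **The Sylow 2-subgroups of a subgroup of `D.group K` contain their centralisers.** -/
theorem sc_emb {X : Type*} [Group X] [Finite X] (e : X →* ↥(D.group K)) (he : Function.Injective e) {S : Set X}
    (hS : ∀ s ∈ S, e s ∈ TT D K) (hsq : ∀ s ∈ S, s * s = 1)
    (hsep : ∀ r < D.nroots, ∃ s ∈ S, ch hp (vec D l r) (e s) ≠ 1) {w : W} (hw : ∀ x, rep cs hp.isCartan w x = -x)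
    {g : X} (hg : Rp cs (rgd (K := K) hp cs p).nsys w (e g)) : Cfsg.Agent.H408.Pron.SC X := by
  have hTc := TT_comm hp (K := K)
  -- an element of `2`-power order over `-1`
  obtain ⟨v, k, j, hv, hk, hkj⟩ : ∃ (v : W) (k : X) (j : ℕ),
      (∀ x, rep cs hp.isCartan v x = -x) ∧ Rp cs (rgd (K := K) hp cs p).nsys v (e k) ∧ k ^ 2 ^ j = 1 := by
    obtain ⟨j, m, hm, hj⟩ := Nat.exists_eq_two_pow_mul_odd (orderOf_pos g).ne'
    have hpow : ∀ m : ℕ, Rp cs (rgd (K := K) hp cs p).nsys (w ^ m) (e g ^ m) := by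
      intro m
      induction m with
      | zero => rw [pow_zero, pow_zero]; exact rp_one
      | succ m ih => rw [pow_succ, pow_succ]; exact ih.mul hg
    refine ⟨w ^ m, g ^ m, j, fun x => ?_, by rw [map_pow]; exact hpow m, ?_⟩
    · have h2 : ∀ (i : ℕ) (x : Fin l → ℤ), rep cs hp.isCartan (w ^ (2 * i)) x = x := by
        intro i
        induction i with
        | zero => intro x; rw [mul_zero, pow_zero, map_one, Module.End.one_apply]
        | succ i ih =>
          intro x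
          rw [show 2 * (i + 1) = 2 * i + 1 + 1 by ring, pow_succ, pow_succ, rep_mul_apply, rep_mul_apply, hw, hw,
            neg_neg, ih]
      obtain ⟨i, rfl⟩ := hm
      rw [pow_succ, rep_mul_apply, hw, h2]
    · rw [← pow_mul, mul_comm, ← hj, pow_orderOf_eq_one]
  -- the involutions of the torus
  let Z : Subgroup X :=
    { carrier := {t | e t ∈ TT D K ∧ t * t = 1}
      one_mem' := ⟨by rw [map_one]; exact one_mem _, one_mul 1⟩
      mul_mem' := by
        rintro a b ⟨ha, ha2⟩ ⟨hb, hb2⟩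
        refine ⟨by rw [map_mul]; exact mul_mem ha hb, tt_sq ?_ ha2 hb2⟩
        apply he
        rw [map_mul, map_mul]
        exact hTc _ ha _ hb
      inv_mem' := by
        rintro a ⟨ha, ha2⟩
        refine ⟨by rw [map_inv]; exact inv_mem ha, ?_⟩
        rw [← mul_inv_rev, ha2, inv_one] }
  have hZ : IsPGroup 2 Z := by
    rintro ⟨a, ha, ha2⟩
    refine ⟨1, Subtype.ext ?_⟩
    show a ^ 2 ^ 1 = 1
    rw [pow_one, pow_two, ha2]
  have hkp : IsPGroup 2 (zpowers k) := by
    rintro ⟨_, i, rfl⟩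
    refine ⟨j, Subtype.ext ?_⟩
    show (k ^ i) ^ 2 ^ j = 1
    rw [← zpow_natCast, ← zpow_mul, mul_comm, zpow_mul, zpow_natCast, hkj, one_zpow]
  have hkn : k ∈ normalizer (Z : Set X) := by
    rw [mem_normalizer_iff]
    intro t
    constructor
    · rintro ⟨ht, ht2⟩
      refine ⟨?_, ?_⟩
      · rw [map_mul, map_mul, map_inv]
        exact (mem_normalizer_iff.1 hk.mem_normalizer (e t)).1 ht
      · calc k * t * k⁻¹ * (k * t * k⁻¹) = k * (t * t) * k⁻¹ := by group
          _ = 1 := by rw [ht2]; group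
    · rintro ⟨ht, ht2⟩
      refine ⟨?_, ?_⟩
      · rw [map_mul, map_mul, map_inv] at ht
        exact (mem_normalizer_iff.1 hk.mem_normalizer (e t)).2 ht
      · have : t * t = k⁻¹ * (k * t * k⁻¹ * (k * t * k⁻¹)) * k := by group
        rw [this, ht2]
        group
  have hP : IsPGroup 2 ((zpowers k) ⊔ Z : Subgroup X) :=
    IsPGroup.to_sup_of_normal_right' hkp hZ (by rw [zpowers_le]; exact hkn)
  refine sc_of hP fun c ho hc => ?_
  apply he
  rw [map_one]
  refine eq_one hp cs p (S := e '' S) ?_ ?_ ?_ hv hk (by rw [orderOf_injective e he]; exact ho) ?_ ?_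
  · rintro _ ⟨s, hs, rfl⟩
    exact hS s hs
  · rintro _ ⟨s, hs, rfl⟩
    rw [← map_mul, hsq s hs, map_one]
  · intro r hr
    obtain ⟨s, hs, h1⟩ := hsep r hr
    exact ⟨e s, ⟨s, hs, rfl⟩, h1⟩
  · rintro _ ⟨s, hs, rfl⟩
    rw [← map_mul, ← map_mul, hc s (mem_sup_right ⟨hS s hs, hsq s hs⟩)]
  · rw [← map_mul, ← map_mul, hc k (mem_sup_left (mem_zpowers k))]

theorem hc_sq (i : Fin l) : hc hp i (-1 : K) * hc hp i (-1) = 1 := by
  have hn1 : (-1 : K) ≠ 0 := neg_ne_zero.2 one_ne_zero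
  refine Cfsg.Agent.H129.TorusChar.cX_inj hp (mul_mem (hc_mem hp i hn1) (hc_mem hp i hn1)) (one_mem _) fun m => ?_
  rw [Cfsg.Agent.H129.TorusChar.cX_mul hp (hc_mem hp i hn1) (hc_mem hp i hn1), Cfsg.Agent.H129.TorusChar.cX_one,
    Cfsg.Agent.H129.TorusChar.cX_sr, ← vec_simple hp m, ch_hc hp i hn1 (simple_lt hp.inList (lt_rank hp m))]
  rw [← mul_zpow]
  norm_num

omit hp in
theorem neg_one_ne_one (hp2 : p ≠ 2) : (-1 : K) ≠ 1 := by
  have h2K : (2 : K) ≠ 0 := by
    intro h0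
    have h1 : p ∣ 2 := (CharP.cast_eq_zero_iff K p 2).1 (by exact_mod_cast h0)
    exact hp2 ((Nat.prime_dvd_prime_iff_eq Fact.out Nat.prime_two).1 h1)
  intro h1
  apply h2K
  have : (1 : K) - (-1) = 0 := by rw [h1, sub_self]
  rw [← this]
  ring

/-- **The Sylow 2-subgroups of `D.group K` contain their centralisers.** -/
theorem sc_chev (hp2 : p ≠ 2) (hodd : ∀ r < D.nroots, ∃ j : Fin l, D.cartan j r % 2 = 1) {w : W}
    (hw : ∀ x, rep cs hp.isCartan w x = -x) : Cfsg.Agent.H408.Pron.SC ↥(D.group K) := by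
  have hm1 : (-1 : K) ≠ 1 := neg_one_ne_one p hp2
  have hn1 : (-1 : K) ≠ 0 := neg_ne_zero.2 one_ne_zero
  obtain ⟨g, hg⟩ := exists_rp cs (hN := (rgd (K := K) hp cs p).nsys) w
  refine sc_emb hp cs p (MonoidHom.id _) (fun _ _ h => h) (S := {t | ∃ i : Fin l, t = hc hp i (-1)}) ?_ ?_ ?_ hw
    (g := g) hg
  · rintro _ ⟨i, rfl⟩
    exact hc_mem hp i hn1
  · rintro _ ⟨i, rfl⟩
    exact hc_sq hp i
  · intro r hr
    obtain ⟨i, hi⟩ := hodd r hr
    refine ⟨hc hp i (-1), ⟨i, rfl⟩, ?_⟩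
    show ch hp (vec D l r) (hc hp i (-1)) ≠ 1
    rw [ch_hc hp i hn1 hr]
    have h1 : Odd (D.cartan i r) := Int.odd_iff.2 hi
    rw [h1.neg_one_zpow]
    exact hm1

end Chev

end Cfsg.Agent.H621.Sc
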